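import Groth.Agent.S14694
import Groth.Agent.S14695
import Groth.Agent.SekSuwaMonoLib.Basic

/-! `α^{λ,N}` becomes an isomorphism after base change to a scheme on which `λ` is invertible. -/

set_option autoImplicit false
set_option backward.isDefEq.respectTransparency false
set_option backward.isDefEq.respectTransparency.types false

universe u

open CategoryTheory CategoryTheory.Limits AlgebraicGeometry SekSuwa SekSuwaMonoLib

noncomputable section

namespace SekSuwaGen

variable {R : Type u} [CommRing R] {lam : R} {N : ℕ}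

theorem finite_flat_GK (hN : 0 < N) (h : DivCond lam N) : IsFinite (GK R lam N h).hom ∧ Flat (GK R lam N h).hom :=
  ⟨(Groth.Agent.S14694.result R lam N hN h).1.1, (Groth.Agent.S14694.result R lam N hN h).1.2.1⟩

theorem finite_flat_diag [NeZero N] :
    IsFinite (Red.diag R (ZMod N)).hom ∧ Flat (Red.diag R (ZMod N)).hom := by
  let M := MonoidAlgebra R (Multiplicative (ZMod N))
  haveI : Module.Finite R M := Module.Finite.of_basis (MonoidAlgebra.basis (Multiplicative (ZMod N)) R)
  haveI : Module.Free R M := Module.Free.of_basis (MonoidAlgebra.basis (Multiplicative (ZMod N)) R)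
  have hh : (Red.diag R (ZMod N)).hom = Spec.map (CommRingCat.ofHom (algebraMap R M)) := rfl
  rw [hh]
  exact ⟨(IsFinite.SpecMap_iff _).2 (RingHom.finite_algebraMap.2 inferInstance),
    (HasRingHomProperty.Spec_iff (P := @Flat)).2 (RingHom.flat_algebraMap_iff.2 inferInstance)⟩

/-- Maps into an affine scheme. -/
def toAff {Y : Scheme.{u}} {A : CommRingCat.{u}} (φ : A ⟶ Γ(Y, ⊤)) : Y ⟶ Spec A := Y.toSpecΓ ≫ Spec.map φ

theorem ψ_toAff {Y : Scheme.{u}} {A : CommRingCat.{u}} (φ : A ⟶ Γ(Y, ⊤)) :
    (Scheme.ΓSpecIso A).inv ≫ (toAff φ).appTop = φ := by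
  rw [toAff, Scheme.Hom.comp_appTop, Scheme.toSpecΓ_appTop, ← Category.assoc,
    ← Scheme.ΓSpecIso_inv_naturality, Category.assoc, Iso.inv_hom_id, Category.comp_id]

theorem eq_toAff {Y : Scheme.{u}} {A : CommRingCat.{u}} (l : Y ⟶ Spec A) :
    toAff ((Scheme.ΓSpecIso A).inv ≫ l.appTop) = l := by
  apply ext_of_isAffine
  rw [← cancel_epi (Scheme.ΓSpecIso A).inv]
  exact ψ_toAff _

theorem toAff_comp {Y : Scheme.{u}} {A B : CommRingCat.{u}} (φ : B ⟶ Γ(Y, ⊤)) (i : A ⟶ B) :
    toAff φ ≫ Spec.map i = toAff (i ≫ φ) := by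
  rw [toAff, toAff, Category.assoc, ← Spec.map_comp]

theorem comp_alphaN_bijective [NeZero N] (h : DivCond lam N) (T : Over (Spec (CommRingCat.of R)))
    (hunit : IsUnit (cst T.hom lam)) :
    Function.Bijective (fun l : T ⟶ GK R lam N h => l ≫ alphaN R lam N h) := by
  have hN : 0 < N := NeZero.pos N
  let B : CommRingCat.{u} := CommRingCat.of (AK R lam N h)
  let ψ : (T.left ⟶ Spec B) → (AK R lam N h →+* Γ(T.left, ⊤)) := fun l =>
    l.appTop.hom.comp (Scheme.ΓSpecIso B).inv.hom
  have hc : ∀ (l : T ⟶ GK R lam N h) (r : R), ψ l.left (algebraMap R _ r) = cst T.hom r := by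
    intro l r
    have hw : l.left ≫ Spec.map (CommRingCat.ofHom (algebraMap R (AK R lam N h))) = T.hom := Over.w l
    conv_rhs => rw [← hw]
    exact (appTop_specMap (CommRingCat.ofHom (algebraMap R (AK R lam N h))) l.left r).symm
  constructor
  · intro l l' e
    have hl := congrArg (fun q => q.left) e
    apply Over.OverMorphism.ext
    have hψ : ψ l.left = ψ l'.left := by
      refine algHom_ext_of_u (fun r => (hc l r).trans (hc l' r).symm)
        (fun a b e => hunit.mul_left_cancel (by rwa [hc l lam] at e)) ?_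
      rw [← SekSuwa.alphaNHom_single_one R lam N h]
      exact (appTop_specMap (CommRingCat.ofHom (SekSuwa.alphaNHom R lam N h : MonoidAlgebra R (Multiplicative (ZMod N)) →+* AK R lam N h)) l.left _).symm.trans
        ((congrArg (fun φ : T.left ⟶ _ => φ.appTop _) hl).trans
          (appTop_specMap (CommRingCat.ofHom (SekSuwa.alphaNHom R lam N h : MonoidAlgebra R (Multiplicative (ZMod N)) →+* AK R lam N h)) l'.left _))
    haveI : IsAffine (GK R lam N h).left := isAffine_Spec B
    apply ext_of_isAffine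
    rw [← cancel_epi (Scheme.ΓSpecIso B).inv]
    exact CommRingCat.hom_ext hψ
  · intro w
    let M := MonoidAlgebra R (Multiplicative (ZMod N))
    let C : CommRingCat.{u} := CommRingCat.of M
    letI : Algebra R Γ(T.left, ⊤) := (cst T.hom).toAlgebra
    let w₀ : M →+* Γ(T.left, ⊤) := w.left.appTop.hom.comp (Scheme.ΓSpecIso C).inv.hom
    have hw₀ : ∀ r, w₀ (algebraMap R M r) = cst T.hom r := by
      intro r
      have hw : w.left ≫ Spec.map (CommRingCat.ofHom (algebraMap R M)) = T.hom := Over.w w
      conv_rhs => rw [← hw]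
      exact (appTop_specMap (CommRingCat.ofHom (algebraMap R M)) w.left r).symm
    let w₁ : M →ₐ[R] Γ(T.left, ⊤) := { w₀ with commutes' := hw₀ }
    let z : Γ(T.left, ⊤) := w₁ (MonoidAlgebra.single (Multiplicative.ofAdd (1 : ZMod N)) 1)
    have hz : z ^ N = 1 := by
      rw [← map_pow, MonoidAlgebra.single_pow, one_pow, ← ofAdd_nsmul, nsmul_eq_mul, ZMod.natCast_self, zero_mul,
        ofAdd_zero]
      exact map_one w₁
    obtain ⟨li, hli⟩ := hunit.exists_right_inv
    let b : Γ(T.left, ⊤) := li * (z - 1)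
    have hb : 1 + lam • b = z := by
      rw [Algebra.smul_def]
      change 1 + cst T.hom lam * (li * (z - 1)) = z
      rw [← mul_assoc, hli, one_mul]
      ring
    have hrel : (1 + lam • b) * z ^ (N - 1) = 1 := by rw [hb, ← pow_succ', Nat.sub_add_cancel hN, hz]
    let f₀ : A R lam →ₐ[R] Γ(T.left, ⊤) := A.lift R lam b (z ^ (N - 1)) hrel
    have hP : Polynomial.aeval b (psiPoly lam N h) = 0 := by
      have e := aeval_psiPoly h b
      rw [← Algebra.smul_def lam b, hb, hz, sub_self, map_pow] at e
      exact (hunit.pow N).mul_left_cancel (e.trans (mul_zero _).symm)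
    have h0 : ∀ a ∈ kerIdeal lam N h, f₀ a = 0 := by
      intro a ha
      obtain ⟨c, rfl⟩ := Ideal.mem_span_singleton'.mp ha
      rw [map_mul, kerGen, ← Polynomial.aeval_algHom_apply, A.lift_t, hP, mul_zero]
    let φ : AK R lam N h →ₐ[R] Γ(T.left, ⊤) := Ideal.Quotient.liftₐ (kerIdeal lam N h) f₀ h0
    have hφ : φ.comp (alphaNHom R lam N h : M →ₐ[R] AK R lam N h) = w₁ := by
      have hgen : φ (alphaNHom R lam N h (MonoidAlgebra.single (Multiplicative.ofAdd (1 : ZMod N)) 1)) = z := by
        rw [alphaNHom_single_one, map_add, map_one, map_smul, show φ AK.t = b from A.lift_t b _ hrel, hb]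
      apply MonoidAlgebra.algHom_ext
      case single_one_left => exact Subsingleton.elim _ _
      intro x
      obtain ⟨j, rfl⟩ : ∃ j : ℕ, Multiplicative.ofAdd (j : ZMod N) = x :=
        ⟨(Multiplicative.toAdd x).val, by simp⟩
      have e : MonoidAlgebra.single (Multiplicative.ofAdd (j : ZMod N)) (1 : R) =
          (MonoidAlgebra.single (Multiplicative.ofAdd (1 : ZMod N)) (1 : R)) ^ j := by
        rw [MonoidAlgebra.single_pow, one_pow, ← ofAdd_nsmul, nsmul_eq_mul, mul_one]
      rw [e, map_pow, map_pow]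
      exact congrArg (· ^ j) hgen
    refine ⟨Over.homMk (toAff (CommRingCat.ofHom φ.toRingHom)) ?_, Over.OverMorphism.ext ?_⟩
    · change toAff _ ≫ Spec.map (CommRingCat.ofHom (algebraMap R (AK R lam N h))) = T.hom
      rw [toAff_comp, ← eq_toAff T.hom]
      exact congrArg toAff (CommRingCat.hom_ext φ.comp_algebraMap)
    · change toAff _ ≫ Spec.map (CommRingCat.ofHom (SekSuwa.alphaNHom R lam N h : M →+* AK R lam N h)) = w.left
      rw [toAff_comp, ← eq_toAff w.left]
      exact congrArg toAff (CommRingCat.hom_ext (congrArg AlgHom.toRingHom hφ))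

theorem isIso_pullback_alphaN [NeZero N] (h : DivCond lam N) {Z : Scheme.{u}} (q : Z ⟶ Spec (CommRingCat.of R))
    (hunit : IsUnit (cst q lam)) : IsIso ((Over.pullback q).map (alphaN R lam N h)) := by
  refine (isIso_iff_yoneda_map_bijective _).mpr fun T => ?_
  let adj := Over.mapPullbackAdj q
  have hT : IsUnit (cst ((Over.map q).obj T).hom lam) := by
    have : cst ((Over.map q).obj T).hom lam = T.hom.appTop.hom (cst q lam) := by
      change (T.hom ≫ q).appTop _ = _
      rw [Scheme.Hom.comp_appTop]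
      rfl
    rw [this]
    exact hunit.map _
  have hb := comp_alphaN_bijective h ((Over.map q).obj T) hT
  have e : (fun x : T ⟶ (Over.pullback q).obj (GK R lam N h) => x ≫ (Over.pullback q).map (alphaN R lam N h)) =
      (adj.homEquiv _ _) ∘ (fun l => l ≫ alphaN R lam N h) ∘ (adj.homEquiv _ _).symm := by
    funext x
    simp only [Function.comp_apply, Adjunction.homEquiv_naturality_right, Equiv.apply_symm_apply]
  rw [e]
  exact (adj.homEquiv _ _).bijective.comp (hb.comp (adj.homEquiv _ _).symm.bijective)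

theorem result [IsDomain R] [NeZero N] (h : DivCond lam N)
    (X : Scheme.{u}) [IsIntegral X] (hX : Pi1.IsNormalScheme X)
    (f : X ⟶ Spec (CommRingCat.of R)) [Flat f]
    (P : Over X) (a : AlgGrp.Action (Red.bc f (GK R lam N h)) P)
    (hP : NonAbH1.IsTorsorFor Scheme.fppfPrecoverage a)
    (P' : Over X) (a' : AlgGrp.Action (Red.bc f (Red.diag R (ZMod N))) P')
    (hP' : NonAbH1.IsTorsorFor Scheme.fppfPrecoverage a')
    (hpush : NonAbH1.IsPushforwardAlongSch ((Over.pullback f).map (alphaN R lam N h)) a a')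
    (htriv : NonAbH1.HasSectionOver P' (𝟙 X)) :
    NonAbH1.HasSectionOver P (𝟙 X) := by
  haveI := (finite_flat_GK (NeZero.pos N) h).1
  haveI := (finite_flat_GK (NeZero.pos N) h).2
  haveI := (finite_flat_diag (R := R) (N := N)).1
  haveI := (finite_flat_diag (R := R) (N := N)).2
  haveI : IsFinite (Red.bc f (GK R lam N h)).hom := inferInstanceAs (IsFinite (pullback.snd _ f))
  haveI : Flat (Red.bc f (GK R lam N h)).hom := inferInstanceAs (Flat (pullback.snd _ f))
  haveI : IsFinite (Red.bc f (Red.diag R (ZMod N))).hom := inferInstanceAs (IsFinite (pullback.snd _ f))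
  haveI : Flat (Red.bc f (Red.diag R (ZMod N))).hom := inferInstanceAs (Flat (pullback.snd _ f))
  let η₀ := X.fromSpecStalk (genericPoint X)
  refine Groth.Agent.S14695.result hX _ _ ((Over.pullback f).map (alphaN R lam N h)) ?_ P a hP P' a' hP' hpush htriv
  haveI : Nonempty X := inferInstance
  have hne : cst f lam ≠ 0 := fun e =>
    one_ne_zero (α := Γ(X, ⊤)) (cancel_cst f h.nzd (a := 1) (b := 0) (by rw [e, zero_mul, zero_mul]))
  have hu : IsUnit (cst (η₀ ≫ f) lam) := by
    have e : cst (η₀ ≫ f) lam = (Scheme.ΓSpecIso _).inv.hom (X.presheaf.germ ⊤ (genericPoint X) trivial (cst f lam)) := by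
      change (η₀ ≫ f).appTop _ = _
      rw [Scheme.Hom.comp_appTop, Scheme.fromSpecStalk_appTop]
      rfl
    rw [e]
    refine IsUnit.map _ ?_
    rw [isUnit_iff_ne_zero (G₀ := X.functionField)]
    exact fun e0 => hne (germ_injective_of_isIntegral X (U := (⊤ : X.Opens)) (genericPoint X) (by trivial) (e0.trans (map_zero _).symm))
  haveI := isIso_pullback_alphaN h (η₀ ≫ f) hu
  exact (NatIso.isIso_map_iff (Over.pullbackComp η₀ f) _).mp inferInstance

end SekSuwaGen
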